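import Groth.Agent.Lib.CurveMult.P1Split
import Groth.Agent.Lib.OmegaPn27.Bott
import Groth.Agent.Lib.K0Sub.Pullback
import Groth.Agent.Lib.CMReg.StructureMain
import Groth.Agent.Lib.CMReg.Free
import Groth.Agent.Lib.Snapper.Polynomial
import Groth.Agent.Lib.NegTwist.H0

/-!
# The cotangent bundle of projective space on a line
-/

set_option autoImplicit false
set_option maxHeartbeats 400000
set_option linter.all false
set_option backward.isDefEq.respectTransparency false

universe u

open CategoryTheory CategoryTheory.Limits AlgebraicGeometry Opposite TopologicalSpace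
open GrothLib.CurveMult.P1Split (O1)

noncomputable section

namespace GrothLib.LineOmega28

variable (k : Type u) [Field k]

local notation "PP" => CohB1.ProjSpace 1 k

attribute [local instance] CurveMult.P1Split.overP1

open CurveMult.P1Split (inv_O1 isCoh_sum euler_O1 sigmaSucc)

theorem euler_sum : ∀ (r : ℕ) (d : Fin r → ℤ),
    Curv2.euler k PP (∐ fun i : Fin r => O1 k (d i)) = ∑ i, (d i + 1) := by
  haveI := Euler.isNoetherian_of_proper (X := PP) k
  intro r
  induction r with
  | zero =>
    intro d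
    rw [Fin.sum_univ_zero]
    exact Snapper.euler_eq_zero_of_isZero k ((IsZero.iff_id_eq_zero _).2 (Sigma.hom_ext _ _ fun i => i.elim0))
  | succ r ih =>
    intro d
    have h1 := Euler.isCoh_of_isInvertible (inv_O1 k (d 0))
    have h2 := isCoh_sum k r fun i => d i.succ
    let S := ShortComplex.mk (biprod.inl : O1 k (d 0) ⟶ O1 k (d 0) ⊞ ∐ fun i : Fin r => O1 k (d i.succ))
      biprod.snd (by simp)
    have hS : S.ShortExact := (ShortComplex.Splitting.ofHasBinaryBiproduct _ _).shortExact
    have h := Euler.euler_additive k hS h1 (QCoh.isCoh_biprod' h1 h2) h2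
    rw [Euler.euler_of_iso k (sigmaSucc fun i : Fin (r + 1) => O1 k (d i)), Fin.sum_univ_succ,
      ← euler_O1 k (d 0), ← ih fun i => d i.succ]
    exact h

theorem finrank_sum_minus_one (n : ℕ) :
    Subsingleton (Coh.HH PP (∐ fun _ : Fin n => O1 k (-1)) 0) :=
  CMReg.subsingleton_HH_sigma (fun _ : Fin n => O1 k (-1)) fun _ => CurveMult.P1Split.subsingleton_H0 k (by norm_num)

/-- A subbundle of `O(-1)^{n+1}` with trivial line bundle quotient. -/
theorem nonempty_iso_of_seq {n : ℕ} (hn : 1 ≤ n) {E : (PP).Modules} (hE : FlatMod.IsFinLocFreeOfRank n E)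
    (a : E ⟶ ∐ fun _ : Fin (n + 1) => O1 k (-1)) (b : (∐ fun _ : Fin (n + 1) => O1 k (-1)) ⟶ Coh.structureModule PP)
    (w : a ≫ b = 0) (hS : (ShortComplex.mk a b w).ShortExact) :
    Nonempty (E ≅ O1 k (-2) ⊞ ∐ fun _ : Fin (n - 1) => O1 k (-1)) := by
  haveI := Euler.isNoetherian_of_proper (X := PP) k
  obtain ⟨d, hd, ⟨e⟩⟩ := CurveMult.P1Split.exists_splitting k n E hE
  haveI := hS.mono_f
  -- no sections
  have h0 : Module.finrank k (Coh.HH PP E 0) = 0 := by
    haveI := finrank_sum_minus_one k (n + 1)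
    haveI := (NegTwist.injective_hhMap_zero k a).subsingleton
    exact Module.finrank_zero_of_subsingleton
  rw [(Euler.hhEquiv (A := k) e 0).finrank_eq, CurveMult.P1Split.finrank_H0_sum] at h0
  have hle : ∀ i, d i + 1 ≤ 0 := fun i => by
    have := Finset.sum_eq_zero_iff.1 h0 i (Finset.mem_univ i)
    omega
  -- the degree
  have hO : Curv2.euler k PP (Coh.structureModule PP) = 1 := by
    obtain ⟨t⟩ := CMReg.nonempty_twist_zero (n := 1) (k := k)
    rw [← Euler.euler_of_iso k t]
    exact (euler_O1 k 0).trans (by norm_num)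
  have hadd := Euler.euler_additive k hS (Euler.isCoh_of_isFinLocFree (FinCov.isFinLocFree_of_rank hE))
    (isCoh_sum k (n + 1) fun _ => -1) (Euler.isCoh_of_isInvertible (Euler.isInvertible_structure (X := PP)))
  dsimp only at hadd
  rw [euler_sum k (n + 1) (fun _ => -1), Euler.euler_of_iso k e, euler_sum, hO] at hadd
  simp only [neg_add_cancel, Finset.sum_const_zero] at hadd
  -- exactly one summand of degree `-2`
  obtain ⟨m, rfl⟩ : ∃ m, n = m + 1 := ⟨n - 1, by omega⟩
  have hlast : ∀ i : Fin (m + 1), d i = if i = Fin.last m then -2 else -1 := by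
    have hanti : ∀ i, d (Fin.last m) ≤ d i := fun i => hd (Fin.le_last i)
    have hsplit := (Finset.sum_erase_add Finset.univ (fun i => d i + 1) (Finset.mem_univ (Fin.last m))).symm
    have hl : d (Fin.last m) = -2 := by
      by_contra hne
      rcases lt_or_gt_of_ne hne with hlt | hgt
      · have : ∑ i ∈ Finset.univ.erase (Fin.last m), (d i + 1) ≤ 0 := Finset.sum_nonpos fun i _ => hle i
        omega
      · have hz : ∀ i, d i + 1 = 0 := fun i => by
          have := hanti i
          have := hle i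
          omega
        have : ∑ i, (d i + 1) = 0 := Finset.sum_eq_zero fun i _ => hz i
        omega
    intro i
    split_ifs with h
    · exact h ▸ hl
    · have h1 : ∑ i ∈ Finset.univ.erase (Fin.last m), (d i + 1) = 0 := by rw [hl] at hsplit; omega
      have := (Finset.sum_eq_zero_iff_of_nonpos fun i _ => hle i).1 h1 i
        (Finset.mem_erase.2 ⟨h, Finset.mem_univ i⟩)
      omega
  let σ : Fin (m + 1) ≃ Fin (m + 1) := Equiv.swap 0 (Fin.last m)
  have hσ : ∀ i : Fin (m + 1), d (σ i) = if i = 0 then -2 else -1 := fun i => by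
    rw [hlast]
    by_cases hi : i = 0
    · subst hi; simp [σ]
    · rw [if_neg hi, if_neg]
      intro h
      exact hi (σ.injective (h.trans (Equiv.swap_apply_left 0 (Fin.last m)).symm))
  exact ⟨e ≪≫ (Sigma.reindex σ fun i => O1 k (d i)).symm ≪≫
    sigmaSucc (fun i : Fin (m + 1) => O1 k (d (σ i))) ≪≫
    biprod.mapIso (eqToIso (by rw [hσ, if_pos rfl]))
      (Sigma.mapIso fun i : Fin m => eqToIso (by rw [hσ, if_neg (Fin.succ_ne_zero i)]))⟩

theorem nonempty_pull_sum {X Y : Scheme.{u}} (i : Y ⟶ X) (m : ℕ) (N : X.Modules) :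
    Nonempty ((Scheme.Modules.pullback i).obj (CohB1.tensorMod (FlatMod.freeMod X m) N) ≅
      ∐ fun _ : Fin m => (Scheme.Modules.pullback i).obj N) := by
  haveI : (Scheme.Modules.pullback i).IsLeftAdjoint := (Scheme.Modules.pullbackPushforwardAdjunction i).isLeftAdjoint
  let e1 : CohB1.tensorMod (FlatMod.freeMod X m) N ≅ ∐ fun _ : Fin m => CohB1.tensorMod (Coh.structureModule X) N :=
    CMReg.tensorSigmaIso (fun _ : Fin m => Coh.structureModule X) N
  let e2 : (∐ fun _ : Fin m => CohB1.tensorMod (Coh.structureModule X) N) ≅ ∐ fun _ : Fin m => N :=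
    Sigma.mapIso fun _ => OX.tensorUnitLeftIso N
  exact ⟨(Scheme.Modules.pullback i).mapIso (e1 ≪≫ e2) ≪≫
    PreservesCoproduct.iso (Scheme.Modules.pullback i) (fun _ : Fin m => N)⟩

/-- The restriction of the cotangent bundle to a line. -/
theorem nonempty_omega_line (n : ℕ) (hn : 1 ≤ n) (i : CohB1.ProjSpace 1 k ⟶ CohB1.ProjSpace n k)
    (hO : Nonempty ((Scheme.Modules.pullback i).obj (Twist.twistProjSpace n k 1) ≅ Twist.twistProjSpace 1 k 1)) :
    Nonempty ((Scheme.Modules.pullback i).obj (Omega.sheaf (CohB1.ProjSpace.toSpec n k)) ≅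
      O1 k (-2) ⊞ ∐ fun _ : Fin (n - 1) => O1 k (-1)) := by
  haveI := Chow.isProper_toSpec n k
  obtain ⟨a, b, w, hS⟩ := OmegaPn27.exists_euler n (CohB1.ProjSpace.toSpec n k) (ProjPic26.chi n k)
    (ProjPic26.isPullback_chi n k)
  obtain ⟨ν⟩ := OmegaPn27.nonempty_N1 n k
  obtain ⟨τ⟩ := CMReg.nonempty_pullback_twist hO (-1)
  obtain ⟨g⟩ := Ample.nonempty_pullback_structureModule i
  haveI : (Scheme.Modules.pullback i).IsLeftAdjoint := (Scheme.Modules.pullbackPushforwardAdjunction i).isLeftAdjoint
  haveI : (Scheme.Modules.pullback i).Additive :=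
    (Scheme.Modules.pullbackPushforwardAdjunction i).left_adjoint_additive
  haveI := Euler.isNoetherian_of_proper (X := PP) k
  have hT := K0Sub.shortExact_map_pullback i _ hS
    (Euler.isFinLocFree_of_isInvertible (Euler.isInvertible_structure (X := CohB1.ProjSpace n k)))
  obtain ⟨ps⟩ := nonempty_pull_sum i (n + 1) (OmegaPn27.N1 n (ProjPic26.chi n k))
  let tw : (Scheme.Modules.pullback i).obj (OmegaPn27.N1 n (ProjPic26.chi n k)) ≅ O1 k (-1) :=
    (Scheme.Modules.pullback i).mapIso ν ≪≫ τ
  let μ : (Scheme.Modules.pullback i).obj (OmegaPn27.EE n (ProjPic26.chi n k)) ≅ ∐ fun _ : Fin (n + 1) => O1 k (-1) :=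
    ps ≪≫ Sigma.mapIso fun _ => tw
  have hT' : (ShortComplex.mk ((Scheme.Modules.pullback i).map a ≫ μ.hom)
      (μ.inv ≫ (Scheme.Modules.pullback i).map b ≫ g.hom)
      (by rw [Category.assoc, μ.hom_inv_id_assoc, ← Functor.map_comp_assoc, w, Functor.map_zero, zero_comp])).ShortExact := by
    refine ShortComplex.shortExact_of_iso (S₁ := (ShortComplex.mk a b w).map (Scheme.Modules.pullback i)) ?_ hT
    refine ShortComplex.isoMk (Iso.refl _) μ g ?_ ?_
    · exact Category.id_comp _
    · exact μ.hom_inv_id_assoc _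
  exact nonempty_iso_of_seq k hn (OX.isFinLocFreeOfRank_pullback i (OmegaPn27.isFinLocFreeOfRank_omegaP n k))
    _ _ _ hT'

end GrothLib.LineOmega28
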